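import Groth.Agent.Lib.CI20.Induction
import Groth.Agent.Lib.CMReg.StructureMain

/-!
# Regular linear forms; cohomology of large twists of complete intersection ideals
-/

set_option autoImplicit false
set_option linter.all false
set_option maxHeartbeats 2000000
set_option backward.isDefEq.respectTransparency false

universe u

open CategoryTheory CategoryTheory.Limits AlgebraicGeometry MvPolynomial
open GrothLib.Cohom (hhMap hhDelta)

noncomputable section

namespace GrothLib.CITwist12

variable {k : Type u} [Field k] {n : ℕ}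

/-- The linear form with given coefficients. -/
def lin : (Fin (n + 1) → k) →ₗ[k] MvPolynomial (Fin (n + 1)) k :=
  Fintype.linearCombination k fun i => X i

theorem lin_apply (v : Fin (n + 1) → k) : lin v = ∑ i, v i • X i := by
  simp [lin, Fintype.linearCombination_apply]

theorem coeff_lin (v : Fin (n + 1) → k) (i : Fin (n + 1)) :
    coeff (Finsupp.single i 1) (lin v) = v i := by
  classical
  simp [lin_apply, coeff_sum, coeff_X', Finsupp.single_eq_single_iff, smul_eq_mul]

theorem lin_injective : Function.Injective (lin : (Fin (n + 1) → k) →ₗ[k] _) := fun v w h =>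
  funext fun i => by rw [← coeff_lin v i, h, coeff_lin]

theorem exists_lin (G : LefPen.Form n k 1) : ∃ v, lin v = (G : MvPolynomial (Fin (n + 1)) k) := by
  have h : (G : MvPolynomial (Fin (n + 1)) k) ∈ homogeneousSubmodule (Fin (n + 1)) k 1 := G.2
  rw [homogeneousSubmodule_one_eq_span_X, Submodule.mem_span_range_iff_exists_fun] at h
  obtain ⟨c, hc⟩ := h
  exact ⟨c, (lin_apply c).trans hc⟩

/-- Linearly independent linear forms are a regular sequence. -/
theorem regForms_linear {r : ℕ} {a : Fin r → ℕ} (G : ∀ l, LefPen.Form n k (a l))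
    (ha : ∀ l, a l = 1) (hG : LinearIndependent k fun l => (G l : MvPolynomial (Fin (n + 1)) k)) :
    CI20.RegForms G := by
  obtain rfl : a = fun _ => 1 := funext ha
  choose v hv using fun l => exists_lin (G l)
  intro m h hh
  let W : Submodule k (Fin (n + 1) → k) := Submodule.span k (v '' {j | j.val < m.val})
  obtain ⟨W', hW'⟩ := Submodule.exists_isCompl W
  let P : (Fin (n + 1) → k) →ₗ[k] (Fin (n + 1) → k) :=
    LinearMap.id - W.subtype ∘ₗ Submodule.linearProjOfIsCompl W W' hW'
  have hPW : ∀ w ∈ W, P w = 0 := fun w hw => by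
    show w - (Submodule.linearProjOfIsCompl W W' hW' w : Fin (n + 1) → k) = 0
    rw [show Submodule.linearProjOfIsCompl W W' hW' w = ⟨w, hw⟩ from
      Submodule.linearProjOfIsCompl_apply_left hW' ⟨w, hw⟩, sub_self]
  have hPsub : ∀ w, w - P w ∈ W := fun w => by
    show w - (w - (Submodule.linearProjOfIsCompl W W' hW' w : Fin (n + 1) → k)) ∈ W
    rw [sub_sub_cancel]
    exact SetLike.coe_mem _
  let π : MvPolynomial (Fin (n + 1)) k →ₐ[k] MvPolynomial (Fin (n + 1)) k := aeval fun i => lin (P (Pi.single i 1))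
  have hπ : ∀ w, π (lin w) = lin (P w) := by
    have h1 : π.toLinearMap ∘ₗ lin = lin ∘ₗ P := by
      refine LinearMap.pi_ext' fun i => LinearMap.ext_ring ?_
      show π (lin (Pi.single i 1)) = lin (P (Pi.single i 1))
      rw [show lin (Pi.single i (1 : k)) = X i by simp [lin_apply, Pi.single_apply]]
      simp [π]
    exact fun w => LinearMap.congr_fun h1 w
  let I := CI20.preIdeal G m.val
  have hI : ∀ w ∈ W, lin w ∈ I := fun w hw => by
    have : W ≤ (I.restrictScalars k).comap lin := Submodule.span_le.2 (by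
      rintro _ ⟨j, hj, rfl⟩
      show lin (v j) ∈ I
      rw [hv]
      exact Ideal.subset_span ⟨j, hj, rfl⟩)
    exact this hw
  have hcong : ∀ p, p - π p ∈ I := fun p => by
    have h1 : (Ideal.Quotient.mkₐ k I).comp π = Ideal.Quotient.mkₐ k I := by
      refine MvPolynomial.algHom_ext fun i => ?_
      have hX : lin (Pi.single i (1 : k)) = X i := by simp [lin_apply, Pi.single_apply]
      show Ideal.Quotient.mk I (π (X i)) = Ideal.Quotient.mk I (X i)
      rw [← hX, hπ, eq_comm, Ideal.Quotient.mk_eq_mk_iff_sub_mem, ← map_sub]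
      exact hI _ (hPsub _)
    exact (Ideal.Quotient.mk_eq_mk_iff_sub_mem _ _).1 (AlgHom.congr_fun h1 p).symm
  have hker : ∀ p ∈ I, π p = 0 := fun p hp => by
    have : I ≤ RingHom.ker π := Ideal.span_le.2 (by
      rintro _ ⟨j, hj, rfl⟩
      show π (G j : MvPolynomial (Fin (n + 1)) k) = 0
      rw [← hv, hπ, hPW _ (Submodule.subset_span ⟨j, hj, rfl⟩), map_zero])
    exact this hp
  have hm : π (G m : MvPolynomial (Fin (n + 1)) k) ≠ 0 := by
    intro h0
    rw [← hv, hπ, ← map_zero lin, lin_injective.eq_iff] at h0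
    have hW : v m ∈ W := by
      have h3 := hPsub (v m)
      rwa [h0, sub_zero] at h3
    have hv' : LinearIndependent k v := by
      refine LinearIndependent.of_comp lin ?_
      convert hG using 1
      funext l
      exact hv l
    have hnm : m ∉ {j : Fin r | j.val < m.val} := fun hlt => lt_irrefl m.val hlt
    exact hv'.notMem_span_image hnm hW
  have h2 := hker _ hh
  rw [map_mul, mul_eq_zero, or_iff_left hm] at h2
  have h3 := hcong h
  rwa [h2, sub_zero] at h3

/-- Large twists of complete intersections have no cohomology and all sections extend. -/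
theorem vanishing : ∀ (r : ℕ) (a : Fin r → ℕ) (G : ∀ l, LefPen.Form n k (a l)), (∀ l, 1 ≤ a l) → CI20.RegForms G →
    ∀ t : ℤ, (∑ l, (a l : ℤ)) - n ≤ t →
    (∀ p : ℕ, 0 < p → Subsingleton (Coh.HH (CohB1.ProjSpace n k) (CMReg.Ft (ClSub.quotMod (LefPen.ciIdeal G)) t) p)) ∧
    Function.Surjective (hhMap k (CI20.ftMap (ClSub.toSubscheme (LefPen.ciIdeal G)) t) 0) := by
  intro r
  induction r with
  | zero =>
    intro a G _ _ t ht
    have hI : LefPen.ciIdeal G = ⊥ := le_bot_iff.1 (iSup_le fun l => l.elim0)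
    haveI : IsIso (LefPen.ciIdeal G).subschemeι := (Scheme.isIso_subschemeι_iff_eq_bot _).2 hI
    haveI := CI20.isIso_unitToPush (LefPen.ciIdeal G).subschemeι
    let e : CMReg.Ft (Coh.structureModule (CohB1.ProjSpace n k)) t ≅
        CMReg.Ft (ClSub.quotMod (LefPen.ciIdeal G)) t :=
      (CMReg.ftFun t).mapIso (asIso (ClSub.toSubscheme (LefPen.ciIdeal G)))
    refine ⟨fun p hp => ?_, (Euler.hhEquiv (A := k) e 0).surjective⟩
    let O := Twist.twistProjSpace n k t
    let e2 : CohB1.tensorMod (Coh.structureModule (CohB1.ProjSpace n k)) O ≅ O := OX.tensorUnitLeftIso O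
    let e' : CMReg.Ft (ClSub.quotMod (LefPen.ciIdeal G)) t ≅ O := e.symm ≪≫ e2
    simp only [Finset.univ_eq_empty, Finset.sum_empty] at ht
    haveI : Subsingleton (Coh.HH (CohB1.ProjSpace n k) O p) := by
      by_cases hpn : p < n
      · exact ProjCohom.subsingleton_HH (n := n) (R := k) (d := t) (q := p) (by omega) (by omega)
      · exact CMReg.subsingleton_HH_twist n hp (by omega)
    exact (Euler.hhEquiv (A := k) e' p).toEquiv.subsingleton
  | succ m ih =>
    intro a G ha hreg t ht
    rw [Fin.sum_univ_castSucc] at ht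
    have hI := fun s (hs : (∑ l : Fin m, (a l.castSucc : ℤ)) - n ≤ s) =>
      ih (fun l => a l.castSucc) (fun l => G l.castSucc) (fun l => ha _) hreg.castSucc s hs
    have hne : G (Fin.last m) ≠ 0 := fun h => hreg.ne_zero ha (Fin.last m) (by rw [h]; rfl)
    obtain ⟨K, ι, g, w, hS, ⟨eK⟩, hg⟩ := CI20.exists_step G hreg hne
    have hK : ∀ (p : ℕ), 0 < p → Subsingleton (Coh.HH (CohB1.ProjSpace n k) (CMReg.Ft K t) p) := by
      intro p hp
      obtain ⟨e2⟩ := CMReg.nonempty_Ft_Ft (ClSub.quotMod (LefPen.ciIdeal fun l : Fin m => G l.castSucc))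
        (-(a (Fin.last m) : ℤ)) t (-(a (Fin.last m) : ℤ) + t) rfl
      haveI := (hI (-(a (Fin.last m) : ℤ) + t) (by linarith)).1 p hp
      exact (Euler.hhEquiv (A := k) ((CMReg.ftFun t).mapIso eK ≪≫ e2) p).toEquiv.subsingleton
    have hat : (0 : ℤ) ≤ a (Fin.last m) := by positivity
    refine ⟨fun p hp => CMReg.sub_X₃ hS ((hI t (by linarith)).1 p hp) (hK (p + 1) (by omega)), ?_⟩
    have hS' := CMReg.ft_shortExact hS t
    have h1 : CI20.ftMap (ClSub.toSubscheme (LefPen.ciIdeal G)) t =
        CI20.ftMap (ClSub.toSubscheme (LefPen.ciIdeal fun l : Fin m => G l.castSucc)) t ≫ CI20.ftMap g t := by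
      rw [← hg]; exact Functor.map_comp _ _ _
    intro y
    obtain ⟨z, hz⟩ := (Cohom.exact₃ (A := k) hS' 0 y).1 (@Subsingleton.elim _ (hK 1 one_pos) _ _)
    obtain ⟨x, rfl⟩ := (hI t (by linarith)).2 z
    exact ⟨x, (congrArg (fun φ => hhMap k φ 0 x) h1).trans ((Euler.hhMap_comp _ _ 0 x).trans hz)⟩

/-- Large twists of the ideal of a complete intersection have no higher cohomology. -/
theorem subsingleton_idealMod_twist {r : ℕ} {a : Fin r → ℕ} (G : ∀ l, LefPen.Form n k (a l)) (ha : ∀ l, 1 ≤ a l)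
    (hreg : CI20.RegForms G) {t : ℤ} (ht : (∑ l, (a l : ℤ)) - n ≤ t) (ht0 : -(n : ℤ) ≤ t) {i : ℕ} (hi : 0 < i) :
    Subsingleton (Coh.HH (CohB1.ProjSpace n k) (CMReg.Ft (ClSub.idealMod (LefPen.ciIdeal G)) t) i) := by
  obtain ⟨hv, hs⟩ := vanishing r a G ha hreg t ht
  obtain ⟨w, hS⟩ := CI20.exists_ses (LefPen.ciIdeal G).subschemeι (LefPen.ciIdeal G) (LefPen.ciIdeal G).ker_subschemeι
  have hS' := CMReg.ft_shortExact hS t
  let O := Twist.twistProjSpace n k t
  have h2 : ∀ p, 0 < p → Subsingleton (Coh.HH (CohB1.ProjSpace n k)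
      (CMReg.Ft (Coh.structureModule (CohB1.ProjSpace n k)) t) p) := fun p hp => by
    haveI : Subsingleton (Coh.HH (CohB1.ProjSpace n k) O p) := by
      by_cases hpn : p < n
      · exact ProjCohom.subsingleton_HH (n := n) (R := k) (d := t) (q := p) (by omega) (by omega)
      · exact CMReg.subsingleton_HH_twist n hp (by omega)
    exact (Euler.hhEquiv (A := k) (OX.tensorUnitLeftIso O) p).toEquiv.subsingleton
  obtain ⟨j, rfl⟩ : ∃ j, i = j + 1 := ⟨i - 1, by omega⟩
  rcases Nat.eq_zero_or_pos j with rfl | hj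
  · refine ⟨fun x y => ?_⟩
    have key : ∀ x : Coh.HH (CohB1.ProjSpace n k) (CMReg.Ft (ClSub.idealMod (LefPen.ciIdeal G)) t) (0 + 1), x = 0 := fun x => by
      obtain ⟨z, hz⟩ := (Cohom.exact₁ (A := k) hS' 0 x).1 (@Subsingleton.elim _ (h2 1 one_pos) _ _)
      obtain ⟨w', hw'⟩ := hs z
      rw [← hz]
      exact (Cohom.exact₃ (A := k) hS' 0 z).2 ⟨w', hw'⟩
    rw [key x, key y]
  · exact CMReg.sub_X₁ hS (hv j hj) (h2 (j + 1) (by omega))

end GrothLib.CITwist12
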